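import Cfsg.Agent.Lib.Sporadic.OutCert.He.Defs

/-!
The separating points of the second element.
-/

set_option autoImplicit false
set_option maxRecDepth 100000
set_option maxHeartbeats 0
set_option Elab.async false

namespace CfsgLib.Sporadic.OutCert.He

theorem sigN_ok : sigCheck 2 2058 cod qN sigTree = true := by decide +kernel

end CfsgLib.Sporadic.OutCert.He
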