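import Cfsg.Agent.Lib.Sporadic.OutCert.He.Defs

/-!
The descent in the centraliser of the second element.
-/

set_option autoImplicit false
set_option maxRecDepth 100000
set_option maxHeartbeats 0
set_option Elab.async false

namespace CfsgLib.Sporadic.OutCert.He

theorem stage_ok : Stage.stageK 12 cod nPows 2058 [] stages = true := by decide +kernel

theorem candN_ok : CentDfs.candsK 12 cod nPows 2058 candN = true ∧ (candN.all fun e => Nat.blt e.1 2058) = true := by
  decide +kernel

theorem dfsN_ok : CentDfs.dfsK 12 cod nPows [baseN] candN
    ((stages.map Prod.fst).map fun x => (x, x)) = true := by decide +kernel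

end CfsgLib.Sporadic.OutCert.He
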