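import Cfsg.Agent.Lib.Sporadic.OutCert.He.Group
import Cfsg.Agent.Lib.Sporadic.OutCert.He.CheckCentA
import Cfsg.Agent.Lib.Sporadic.OutCert.He.CheckSigN
import Cfsg.Agent.Lib.Sporadic.OutCert.He.CheckStage

/-!
The centralisers of the element of prime order and of the element normalising it.
-/

set_option autoImplicit false
set_option maxRecDepth 10000

namespace CfsgLib.Sporadic.OutCert.He

attribute [local irreducible] lk pkF allF compK oneK cod rowAt ka kai kn kni kb kbi kt ku kui kc0 kct kc0t ks ksu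
  aPows nPows candA candN stages sigTree sigATree sTab slpG innerAt

theorem rep_twoPow {k : ℕ} {g : P} (hg : Rep 12 2058 k g) {j : ℕ} (hj : j < 2) :
    Rep 12 2058 (twoPow k j) (g ^ j) := by
  match j, hj with
  | 0, _ => rw [twoPow, if_pos (by decide), pow_zero]; exact rep_one hw
  | 1, _ => rw [twoPow, if_neg (by decide), pow_one]; exact hg

theorem eq_of_tuple {g c e : P} {o : ℕ} {L : List ℕ} {T : List ℕ} {t : Tree}
    (hT : T.length = o) (hrep : ∀ k < o, Rep 12 2058 (T.getD k 0) (g ^ k))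
    (hsig : sigCheck 2 2058 cod (L.flatMap fun x => T.map fun p => lk 12 p x) t = true)
    (hc : c ∈ pairStab cod) (he : e ∈ pairStab cod) (hcg : Commute c g) (heg : Commute e g)
    {ys : List (Fin 2058)} (hys : ys.map Fin.val = L) (heq : ∀ y ∈ ys, (c y : ℕ) = (e y : ℕ)) : c = e := by
  refine eq_of_agree hsig hc he fun q hq => ?_
  rw [List.mem_flatMap] at hq
  obtain ⟨d, hd, hq⟩ := hq
  obtain ⟨p, hp, rfl⟩ := List.mem_map.1 hq
  obtain ⟨k, hk, rfl⟩ := List.getElem_of_mem hp
  rw [← hys] at hd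
  obtain ⟨y, hy, rfl⟩ := List.mem_map.1 hd
  refine ⟨(g ^ k) y, ?_, ?_⟩
  · rw [← List.getD_eq_getElem _ 0 hk]
    exact (hrep k (hT ▸ hk) y).symm
  · have h1 := DFunLike.congr_fun (hcg.pow_right k).eq y
    have h2 := DFunLike.congr_fun (heg.pow_right k).eq y
    rw [Equiv.Perm.mul_apply, Equiv.Perm.mul_apply] at h1 h2
    rw [h1, h2, show c y = e y from Fin.ext (heq y hy)]

theorem cent_A_stab {c : P} (hc : c ∈ Stab) (hca : Commute c pA) :
    ∃ i < 17, ∃ j < 2, c = pA ^ i * pT ^ j := by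
  have hcod := stab_le_cod hc
  obtain ⟨ys, h1, h2⟩ := CentDfs.dfs_spec pows.2.2.1 (fun k hk => rep_aPow hk) hcod hca candA [] []
    candA_ok.1 dfsA_ok (fun e he => Nat.le_of_ble_eq_true (List.all_eq_true.1 candA_ok.2 e he)) rfl
  rw [List.map_nil, List.nil_append] at h1
  simp only [allowA, List.mem_map, List.mem_range] at h2
  obtain ⟨k, hk, hk'⟩ := h2
  refine ⟨k / 2, by omega, k % 2, by omega, eq_of_tuple pows.2.2.1 (fun k hk => rep_aPow hk) sigA_ok hcod
    (stab_le_cod (mul_mem (pow_mem A_stab _) (pow_mem (H_le_stab T_mem) _))) hca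
    (((Commute.refl pA).pow_left _).mul_left (T_A.pow_left _)) h1 ?_⟩
  have hmap : ys.map (fun y : Fin 2058 => (c y : ℕ)) =
      ys.map (fun y : Fin 2058 => ((pA ^ (k / 2) * pT ^ (k % 2)) y : ℕ)) := by
    rw [← hk', show (candA.map fun e : ℕ × List ℕ =>
        lk 12 (aPows.getD (k / 2) 0) (lk 12 (twoPow kt (k % 2)) e.1)) =
      (candA.map Prod.fst).map (fun x => lk 12 (aPows.getD (k / 2) 0) (lk 12 (twoPow kt (k % 2)) x)) from
        by rw [List.map_map]; rfl, ← h1, List.map_map]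
    refine List.map_congr_left fun y _ => ?_
    show lk 12 _ (lk 12 _ (y : ℕ)) = _
    rw [rep_twoPow rep_T (by omega), rep_aPow (by omega)]
    rfl
  exact List.map_inj_left.1 hmap

theorem orderOf_A : orderOf pA = 17 := by
  haveI : Fact (Nat.Prime 17) := ⟨by norm_num⟩
  refine orderOf_eq_prime A_pow fun e => ?_
  obtain ⟨x, hx, hne⟩ := List.any_eq_true.1 points.1
  have h := rep_A ⟨x, List.mem_range.1 hx⟩
  rw [e] at h
  simp only [Bool.not_eq_true', beq_eq_false_iff_ne, ne_eq] at hne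
  exact hne h

theorem U_moves {j : ℕ} (hj : j < 16) (h0 : j ≠ 0) : ¬ Commute (pU ^ j) pA := by
  intro hc
  have e : ∀ i : ℕ, pU ^ i * pA = pA ^ (3 ^ i) * pU ^ i := by
    intro i
    induction i with
    | zero => simp
    | succ i ih => rw [pow_succ' pU, mul_assoc, ih, ← mul_assoc, conj_gen U_A, mul_assoc, pow_succ' 3]
  have h : pA ^ (3 ^ j) = pA ^ 1 := by
    rw [pow_one]; exact mul_right_cancel ((e j).symm.trans hc.eq)
  rw [pow_eq_pow_iff_modEq, orderOf_A, Nat.ModEq] at h
  revert h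
  interval_cases j <;> simp_all

theorem U_notMem : pU ∉ H := by
  intro hU
  haveI : Fact (Nat.Prime 17) := ⟨by norm_num⟩
  let a : H := ⟨pA, A_mem⟩
  let u : H := ⟨pU, hU⟩
  let t : H := ⟨pT, T_mem⟩
  have ha : orderOf a = 17 := (orderOf_injective H.subtype Subtype.coe_injective a).symm.trans orderOf_A
  set Q : Subgroup H := Subgroup.zpowers a with hQ
  have hQc : Nat.card Q = 17 := by rw [hQ, Nat.card_zpowers, ha]
  set C : Subgroup H := Subgroup.centralizer (Q : Set H) with hC
  set Nr : Subgroup H := Subgroup.normalizer (Q : Set H) with hNr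
  have hCle : C ≤ Nr := Subgroup.centralizer_le_normalizer _
  have memC : ∀ x : H, Commute x a → x ∈ C := fun x hx => by
    rw [hC, hQ, Subgroup.zpowers_eq_closure, Subgroup.centralizer_closure,
      Subgroup.mem_centralizer_singleton_iff]
    exact hx.eq
  -- the centraliser
  have hCcard : Nat.card C = 17 := centCard a rfl t rfl C memC (fun c hc => by
    have hm : Commute c a := (Subgroup.mem_centralizer_iff.1 hc a (Subgroup.mem_zpowers a)).symm
    obtain ⟨i, hi, j, hj, e⟩ := cent_A_stab (H_le_stab c.2) (congrArg Subtype.val hm.eq)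
    exact ⟨i, hi, j, hj, Subtype.ext e⟩)
  -- the normaliser
  let f : Nr →* MulAut Q := Q.normalizerMonoidHom
  have hker : Nat.card f.ker = 17 := by
    rw [show f.ker = (Subgroup.centralizer (Q : Set H)).subgroupOf Nr from Subgroup.normalizerMonoidHom_ker _,
      Nat.card_congr (Subgroup.subgroupOfEquivOfLe hCle).toEquiv]
    exact hCcard
  have himg : Nat.card f.range ≤ 16 := by
    haveI : IsCyclic Q := isCyclic_of_prime_card hQc
    refine (Subgroup.card_le_card_group f.range).trans ?_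
    rw [IsCyclic.card_mulAut, hQc, Nat.totient_prime (by norm_num)]
  have huN : u ∈ Nr := by
    rw [hNr, Subgroup.mem_normalizer_iff]
    intro x
    have hconj : MulAut.conj u a = a ^ 3 := by
      rw [MulAut.conj_apply, mul_inv_eq_iff_eq_mul]; exact Subtype.ext U_A
    have hmap : Q.map (MulAut.conj u).toMonoidHom = Q := by
      refine Subgroup.eq_of_le_of_card_ge ?_ (Nat.card_congr
        (Q.equivMapOfInjective _ (MulAut.conj u).injective).toEquiv).le
      rw [hQ, MonoidHom.map_zpowers, MulEquiv.coe_toMonoidHom, hconj, Subgroup.zpowers_le]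
      exact pow_mem (Subgroup.mem_zpowers a) _
    constructor
    · intro hx
      rw [← hmap]
      exact ⟨x, hx, rfl⟩
    · intro hx
      rw [← hmap] at hx
      obtain ⟨y, hy, e⟩ := hx
      have e' : MulAut.conj u y = MulAut.conj u x := e
      exact (MulAut.conj u).injective e' ▸ hy
  have himg' : 16 ≤ Nat.card f.range := by
    by_contra hlt
    let v : f.range := ⟨f ⟨u, huN⟩, ⟨_, rfl⟩⟩
    have ho : orderOf v < 16 :=
      lt_of_le_of_lt (Nat.le_of_dvd Nat.card_pos (orderOf_dvd_natCard v)) (not_le.1 hlt)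
    have hpow := congrArg Subtype.val (pow_orderOf_eq_one v)
    rw [Subgroup.coe_pow, Subgroup.coe_one, ← map_pow] at hpow
    have hk : (⟨u, huN⟩ : Nr) ^ orderOf v ∈ f.ker := MonoidHom.mem_ker.2 hpow
    rw [show f.ker = (Subgroup.centralizer (Q : Set H)).subgroupOf Nr from Subgroup.normalizerMonoidHom_ker _,
      Subgroup.mem_subgroupOf] at hk
    have hc : Commute (pU ^ orderOf v) pA :=
      (congrArg Subtype.val (Subgroup.mem_centralizer_iff.1 hk a (Subgroup.mem_zpowers a))).symm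
    exact U_moves ho (orderOf_pos v).ne' hc
  have hN : Nat.card Nr = 17 * 16 := by
    have h := f.ker.card_mul_index
    rw [Subgroup.index_ker, hker, le_antisymm himg himg'] at h
    exact h.symm
  let Sy : Sylow 17 H := Sylow.ofCard Q (by
    rw [hQc, H_spec.2, ← Nat.primeFactorsList_count_eq]
    simp)
  have h1 := card_sylow_modEq_one 17 H
  have h2 := Sy.card_eq_index_normalizer
  have h3 := Nr.card_mul_index
  rw [H_spec.2, hN] at h3
  rw [h2] at h1
  change Nr.index ≡ 1 [MOD 17] at h1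
  rw [show Nr.index = 14817600 by omega, Nat.ModEq] at h1
  norm_num at h1
where
  centCard (a : H) (ha' : (a : P) = pA) (t : H) (ht' : (t : P) = pT) (C : Subgroup H)
      (memC : ∀ x : H, Commute x a → x ∈ C)
      (hrev : ∀ c ∈ C, ∃ i < 17, ∃ j < 2, c = a ^ i * t ^ j) : Nat.card C = 17 := by
    haveI : Fact (Nat.Prime 17) := ⟨by norm_num⟩
    haveI : Fact (Nat.Prime 2) := ⟨Nat.prime_two⟩
    have ha : orderOf a = 17 :=
      (orderOf_injective H.subtype Subtype.coe_injective a).symm.trans ((congrArg orderOf ha').trans orderOf_A)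
    have haC : a ∈ C := memC a (Commute.refl a)
    have h17 : 17 ∣ Nat.card C := by
      have := C.orderOf_dvd_natCard haC
      rwa [ha] at this
    by_cases hT : pT = 1
    · have ht1 : t = 1 := Subtype.ext (ht'.trans hT)
      have hle : Nat.card C ≤ 17 := by
        refine (Nat.card_le_card_of_surjective (fun i : Fin 17 => (⟨a ^ (i : ℕ), pow_mem haC _⟩ : C))
          fun c => ?_).trans_eq (Nat.card_fin _)
        obtain ⟨i, hi, j, hj, e⟩ := hrev c c.2
        exact ⟨⟨i, hi⟩, Subtype.ext (by rw [e, ht1, one_pow, mul_one])⟩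
      have hflag : false = false := by
        refine points.2.symm.trans ?_
        rw [List.any_eq_false]
        intro x hx
        have h := rep_T ⟨x, List.mem_range.1 hx⟩
        rw [hT] at h
        simp [h]
      have := Nat.le_antisymm hle (Nat.le_of_dvd Nat.card_pos h17)
      simp_all
    · have htC : t ∈ C := memC t (Subtype.ext (by
        rw [Subgroup.coe_mul, Subgroup.coe_mul, ha', ht']; exact T_A.eq))
      have h2 : 2 ∣ Nat.card C := by
        have := C.orderOf_dvd_natCard htC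
        rwa [orderOf_eq_prime (p := 2) (Subtype.ext (by rw [Subgroup.coe_pow, ht', pow_two]; exact T_sq))
          (fun e => hT (ht'.symm.trans (congrArg Subtype.val e)))] at this
      have hle : Nat.card C ≤ 17 * 2 := by
        refine (Nat.card_le_card_of_surjective
          (fun i : Fin 17 × Fin 2 => (⟨a ^ (i.1 : ℕ) * t ^ (i.2 : ℕ), mul_mem (pow_mem haC _) (pow_mem htC _)⟩ : C))
          fun c => ?_).trans_eq (by simp)
        obtain ⟨i, hi, j, hj, e⟩ := hrev c c.2
        exact ⟨(⟨i, hi⟩, ⟨j, hj⟩), Subtype.ext e.symm⟩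
      have hflag : false = true := by
        refine points.2.symm.trans ?_
        rw [List.any_eq_true]
        by_contra hall
        refine hT (Equiv.ext fun x => Fin.ext ?_)
        rw [← rep_T x]
        by_contra hne
        exact hall ⟨x, List.mem_range.2 x.2, by simp [show lk 12 kt (x : ℕ) ≠ (x : ℕ) from hne]⟩
      have := Nat.le_antisymm hle (Nat.le_of_dvd Nat.card_pos
        ((show Nat.Coprime 17 2 by norm_num).mul_dvd_of_dvd_of_dvd h17 h2))
      simp_all

theorem cent_A {c : P} (hc : c ∈ Stab) (hca : Commute c pA) : c ∈ H := by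
  obtain ⟨i, -, j, -, e⟩ := cent_A_stab hc hca
  rw [e]
  exact mul_mem (pow_mem A_mem i) (pow_mem T_mem j)

theorem choices_append {A : List (List ℕ)} {T : List ℕ} :
    ∀ {ks : List ℕ}, ks ∈ Stage.choices (A ++ [T]) ↔
      ∃ ks0 ∈ Stage.choices A, ∃ l ∈ T, ks = ks0 ++ [l] := by
  induction A with
  | nil => intro ks; simp [Stage.choices, eq_comm]
  | cons B A ih =>
    intro ks
    simp only [List.cons_append, Stage.choices, List.mem_flatMap, List.mem_map]
    constructor
    · rintro ⟨k, hk, r, hr, rfl⟩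
      obtain ⟨ks0, h0, l, hl, rfl⟩ := ih.1 hr
      exact ⟨k :: ks0, ⟨k, hk, ks0, h0, rfl⟩, l, hl, rfl⟩
    · rintro ⟨_, ⟨k, hk, r, hr, rfl⟩, l, hl, rfl⟩
      exact ⟨k, hk, r ++ [l], ih.2 ⟨r, hr, l, hl, rfl⟩, rfl⟩

theorem prod_mem : ∀ {A : List (List ℕ)} {ks : List ℕ} {L : List P}, ks ∈ Stage.choices A →
    (∀ k ∈ A.flatten, ∃ g ∈ H, Rep 12 2058 k g) → List.Forall₂ (Rep 12 2058) ks L → L.prod ∈ H
  | [], ks, L, h, _, hL => by
    simp [Stage.choices] at h
    subst h
    rw [List.forall₂_nil_left_iff] at hL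
    subst hL
    exact H.one_mem
  | T :: A, ks, L, h, hA, hL => by
    simp only [Stage.choices, List.mem_flatMap, List.mem_map] at h
    obtain ⟨k, hk, r, hr, rfl⟩ := h
    obtain ⟨x, M, hx, hM, rfl⟩ := List.forall₂_cons_left_iff.1 hL
    rw [List.prod_cons]
    obtain ⟨g, hg, hgr⟩ := hA k (by simp [hk])
    exact mul_mem (hx.inj hgr ▸ hg) (prod_mem hr (fun k hk => hA k (by simp [hk])) hM)

theorem split_forall {R : ℕ → P → Prop} : ∀ {a b : List ℕ} {L : List P}, List.Forall₂ R (a ++ b) L →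
    ∃ L0 L1, List.Forall₂ R a L0 ∧ List.Forall₂ R b L1 ∧ L = L0 ++ L1
  | [], _, L, h => ⟨[], L, List.Forall₂.nil, h, rfl⟩
  | x :: a, b, L, h => by
    rw [List.cons_append] at h
    obtain ⟨y, M, hy, hM, rfl⟩ := List.forall₂_cons_left_iff.1 h
    obtain ⟨L0, L1, h0, h1, rfl⟩ := split_forall hM
    exact ⟨y :: L0, L1, List.Forall₂.cons hy h0, h1, rfl⟩

theorem S_spec : ∃ s : P, Rep 12 2058 ks s ∧ s ∈ Stab ∧ s ∉ H := by
  obtain ⟨g, hg, hr⟩ := Su_rep
  refine ⟨g * pU, ?_, mul_mem (H_le_stab hg) U_stab, fun h => U_notMem ?_⟩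
  · have h := rep_comp hw hr rep_U
    rwa [rels.2.2.2.2.2.2.2.2.2] at h
  · rw [show pU = g⁻¹ * (g * pU) by rw [inv_mul_cancel_left]]
    exact mul_mem (inv_mem hg) h

theorem last_spec {l : ℕ} (hl : l ∈ lastT) : ∃ x : P, Rep 12 2058 l x ∧ x ∈ Stab ∧
    (l ∈ lastT.take innerLast ∨ x ∉ H) := by
  obtain ⟨r, hr, h⟩ := List.any_eq_true.1 (List.all_eq_true.1 elements_ok.2.2.1 l hl)
  obtain ⟨g, hg, hgr⟩ := inner_mem (List.mem_append_right _ hr)
  rw [Bool.or_eq_true, beq_iff_eq, beq_iff_eq] at h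
  rcases h with rfl | h
  · exact ⟨g, hgr, H_le_stab hg, Or.inl hr⟩
  · obtain ⟨s, hs, hsS, hsH⟩ := S_spec
    refine ⟨g * s, h ▸ rep_comp hw hgr hs, mul_mem (H_le_stab hg) hsS, Or.inr fun hm => hsH ?_⟩
    rw [show s = g⁻¹ * (g * s) by rw [inv_mul_cancel_left]]
    exact mul_mem (inv_mem hg) hm

theorem stage_elements : ∀ e ∈ stages, ∀ k ∈ e.2,
    ∃ x, Rep 12 2058 k x ∧ x ∈ pairStab cod ∧ Commute x pN := by
  intro e he k hk
  have hmem : k ∈ frontT.flatten ∨ k ∈ lastT := by
    have h : e.2 ∈ stages.map Prod.snd := List.mem_map.2 ⟨e, he, rfl⟩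
    rw [beq_iff_eq.1 elements_ok.2.2.2, List.mem_append, List.mem_singleton] at h
    rcases h with h | h
    · exact Or.inl (List.mem_flatten.2 ⟨_, h, hk⟩)
    · exact Or.inr (h ▸ hk)
  obtain ⟨x, hx, hxS⟩ : ∃ x : P, Rep 12 2058 k x ∧ x ∈ Stab := by
    rcases hmem with h | h
    · obtain ⟨g, hg, hgr⟩ := inner_mem (List.mem_append_left _ h)
      exact ⟨g, hgr, H_le_stab hg⟩
    · obtain ⟨x, h1, h2, -⟩ := last_spec h
      exact ⟨x, h1, h2⟩
  refine ⟨x, hx, stab_le_cod hxS, ?_⟩
  have h := beq_iff_eq.1 (List.all_eq_true.1 (List.all_eq_true.1 elements_ok.1 e he) k hk)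
  exact (h ▸ rep_comp hw hx rep_N).inj (rep_comp hw rep_N hx)

theorem cent_N {c : P} (hc : c ∈ H) (hcn : Commute c pN) :
    ∃ ks ∈ innerChoices, ∃ L : List P, List.Forall₂ (Rep 12 2058) ks L ∧ c = L.prod := by
  have hcod := stab_le_cod (H_le_stab hc)
  obtain ⟨ks, L, d, xs, hks, hL, hcd, hd, hdn, hxs, hfix⟩ := Stage.descend pows.2.2.2 (fun k hk => rep_nPow hk)
    stages [] c stage_elements stage_ok hcod hcn (fun p hp => absurd hp List.not_mem_nil)
  rw [List.map_nil, List.nil_append] at hxs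
  have hd1 : d = 1 := by
    obtain ⟨ys, h1, h2⟩ := CentDfs.dfs_spec pows.2.2.2 (fun k hk => rep_nPow hk) hd hdn candN
      ((stages.map Prod.fst).map fun x => (x, x)) xs candN_ok.1 dfsN_ok
      (fun e he => Nat.le_of_ble_eq_true (List.all_eq_true.1 candN_ok.2 e he)) (by
        rw [← hxs, List.map_map]
        refine List.map_congr_left fun y hy => ?_
        show ((y : ℕ), (y : ℕ)) = ((y : ℕ), (d y : ℕ))
        rw [hfix y hy])
    rw [List.map_map] at h1
    have h1' : ys.map Fin.val = baseN := by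
      simp [h1, baseN, Function.comp_def]
    rw [List.mem_singleton, ← h1'] at h2
    exact eq_of_tuple pows.2.2.2 (fun k hk => rep_nPow hk) sigN_ok hd (one_mem _) hdn (Commute.one_left _) h1'
      (List.map_inj_left.1 (h2.trans (List.map_congr_left fun y _ => rfl)))
  rw [hd1, mul_one] at hcd
  rw [beq_iff_eq.1 elements_ok.2.2.2, choices_append] at hks
  obtain ⟨ks0, h0, l, hl, rfl⟩ := hks
  refine ⟨ks0 ++ [l], choices_append.2 ⟨ks0, h0, l, ?_, rfl⟩, L, hL, hcd⟩
  obtain ⟨x, hx, -, h | h⟩ := last_spec hl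
  · exact h
  exfalso
  refine h ?_
  obtain ⟨L0, L1, hL0, hL1, rfl⟩ : ∃ L0 L1, List.Forall₂ (Rep 12 2058) ks0 L0 ∧
      List.Forall₂ (Rep 12 2058) [l] L1 ∧ L = L0 ++ L1 := split_forall hL
  obtain ⟨y, hy, rfl⟩ : ∃ y, Rep 12 2058 l y ∧ L1 = [y] := by
    obtain ⟨y, M, hy, hM, rfl⟩ := List.forall₂_cons_left_iff.1 hL1
    rw [List.forall₂_nil_left_iff] at hM
    exact ⟨y, hy, by rw [hM]⟩
  have h0' := prod_mem h0 (fun k hk => inner_mem (List.mem_append_left _ hk)) hL0
  rw [List.prod_append, List.prod_singleton, hy.inj hx] at hcd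
  rw [show x = L0.prod⁻¹ * c by rw [hcd, inv_mul_cancel_left]]
  exact mul_mem (inv_mem h0') hc

end CfsgLib.Sporadic.OutCert.He
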