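import Cfsg.Agent.Lib.Sporadic.OutCert.He.Defs

/-!
The permutations and their relations.
-/

set_option autoImplicit false
set_option maxRecDepth 100000
set_option maxHeartbeats 0
set_option Elab.async false

namespace CfsgLib.Sporadic.OutCert.He

theorem valid : validK 12 2058 kPi kPiI = true ∧ validK 12 2058 ka kai = true ∧ validK 12 2058 kn kni = true ∧
    validK 12 2058 kb kbi = true ∧ validK 12 2058 kt kt = true ∧ validK 12 2058 ku kui = true := by decide +kernel

theorem pows : (aPows.head? == some (oneK 12 2058) && ((List.range 16).all fun i =>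
      compK 12 2058 ka (aPows.getD i 0) == aPows.getD (i + 1) 0) &&
      compK 12 2058 ka (aPows.getD 16 0) == oneK 12 2058) = true ∧
    (nPows.head? == some (oneK 12 2058) && ((List.range 7).all fun i =>
      compK 12 2058 kn (nPows.getD i 0) == nPows.getD (i + 1) 0) &&
      compK 12 2058 kn (nPows.getD 7 0) == oneK 12 2058) = true ∧ aPows.length = 17 ∧ nPows.length = 8 := by
  decide +kernel

theorem rels : compK 12 2058 kn ka = compK 12 2058 (aPows.getD 9 0) kn ∧
    compK 12 2058 kb kn = compK 12 2058 (nPows.getD 7 0) kb ∧
    compK 12 2058 kt ka = compK 12 2058 ka kt ∧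
    compK 12 2058 kt kn = compK 12 2058 kn kt ∧
    compK 12 2058 ku ka = compK 12 2058 (aPows.getD 3 0) ku ∧
    compK 12 2058 ku kn = compK 12 2058 kn ku ∧
    compK 12 2058 ku kb = compK 12 2058 (compK 12 2058 kb kc0) ku ∧
    compK 12 2058 kt kb = compK 12 2058 (compK 12 2058 kb kct) kt ∧
    compK 12 2058 kt (compK 12 2058 kb kc0) = compK 12 2058 (compK 12 2058 kb kc0t) kt ∧
    compK 12 2058 ksu ku = ks := by decide +kernel

theorem points : ((List.range 2058).any fun x => !(lk 12 ka x == x)) = true ∧
    ((List.range 2058).any fun x => !(lk 12 kt x == x)) = false := by decide +kernel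

theorem elements_ok : (stages.all fun e => e.2.all fun k => compK 12 2058 k kn == compK 12 2058 kn k) = true ∧
    ((frontT.flatten ++ lastT.take innerLast).all fun k => innerAt.any fun e => e.1 == k) = true ∧
    (lastT.all fun l => (lastT.take innerLast).any fun r => r == l || compK 12 2058 r ks == l) = true ∧
    (stages.map Prod.snd == frontT ++ [lastT]) = true := by decide +kernel

theorem good_ok : good.length = 4 ∧
    ((List.range 4).all fun i => prodK (good.getD i (0, [])).2 == [oneK 12 2058, kct, kc0, kc0t].getD i 0) = true ∧
    (good.map Prod.fst == [1, 1, 3, 3]) = true := by decide +kernel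

end CfsgLib.Sporadic.OutCert.He
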