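import Cfsg.Agent.Lib.Sporadic.OutCert.He.Defs
import Cfsg.Agent.Lib.Sporadic.HeData.HeTable
/-!
The renumbered generators are those of the action on the cosets.
-/

set_option autoImplicit false
set_option maxRecDepth 100000
set_option maxHeartbeats 0
set_option Elab.async false

namespace CfsgLib.Sporadic.OutCert.He

open CfsgLib.Sporadic.CosetCert in
theorem conj_ok : ((List.range 7).all fun x => allF (fun u =>
    lk 12 (sTab.getD x 0) (lk 12 kPi u) == lk 12 kPi (HeData.table.img x u)) 2058) = true := by decide +kernel

end CfsgLib.Sporadic.OutCert.He
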