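import Cfsg.Agent.Lib.Sporadic.OutCert.He.Defs

/-!
The second element moves the rows.
-/

set_option autoImplicit false
set_option maxRecDepth 100000
set_option maxHeartbeats 0
set_option Elab.async false

namespace CfsgLib.Sporadic.OutCert.He

theorem rows_N : rowsK nbA kn 122 = true := by decide +kernel

end CfsgLib.Sporadic.OutCert.He
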