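import Cfsg.Agent.Lib.Sporadic.OutCert.He.Defs

/-!
The chosen elements are products of the generators.
-/

set_option autoImplicit false
set_option maxRecDepth 100000
set_option maxHeartbeats 0
set_option Elab.async false

namespace CfsgLib.Sporadic.OutCert.He

theorem slp_G : slpCheck 12 2058 sTab slpG = true := by decide +kernel

theorem slp_G_at : ((slpGAt ++ innerAt.map Prod.snd ++ [atT, atC0, atSu]).all fun i =>
      Nat.blt i (sTab.length + slpG.length)) = true ∧
    slpVal sTab slpG (slpGAt.getD 0 0) = ka ∧ slpVal sTab slpG (slpGAt.getD 1 0) = kn ∧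
    slpVal sTab slpG (slpGAt.getD 2 0) = kb ∧ slpVal sTab slpG atT = kt ∧ slpVal sTab slpG atC0 = kc0 ∧
    slpVal sTab slpG atSu = ksu ∧ (innerAt.all fun e => slpVal sTab slpG e.2 == e.1) = true ∧
    3 ≤ slpGAt.length ∧ sTab.length = 7 := by
  decide +kernel

end CfsgLib.Sporadic.OutCert.He
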