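import Cfsg.Agent.Lib.Sporadic.OutCert.He.Defs

/-!
The generators are products of the three elements.
-/

set_option autoImplicit false
set_option maxRecDepth 100000
set_option maxHeartbeats 0
set_option Elab.async false

namespace CfsgLib.Sporadic.OutCert.He

theorem slp_H : slpCheck 12 2058 [ka, kn, kb] slpH = true := by decide +kernel

theorem slp_H_at : (slpHAt.all fun i => Nat.blt i (3 + slpH.length)) = true ∧ slpHAt.length = 7 ∧
    ((List.range 7).all fun k => slpVal [ka, kn, kb] slpH (slpHAt.getD k 0) == sTab.getD k 0) = true := by
  decide +kernel

end CfsgLib.Sporadic.OutCert.He
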