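import Cfsg.Agent.Lib.Sporadic.OutCert.He.Defs

/-!
The tests leave only the choices giving automorphisms.
-/

set_option autoImplicit false
set_option maxRecDepth 100000
set_option maxHeartbeats 0
set_option Elab.async false

namespace CfsgLib.Sporadic.OutCert.He

theorem tests_true : (tests.all fun t => testK 12 2058 (testWord 1 [] t.1) t.2) = true := by decide +kernel

theorem tests_ok : ([1, 3].all fun m => innerChoices.all fun ks =>
    goodK m ks || tests.any fun t => !(Nat.beq (iterK 12 (testWord m ks t.1) t.2 testPt) testPt)) = true := by decide +kernel

end CfsgLib.Sporadic.OutCert.He
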