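import Cfsg.Agent.Lib.Sporadic.OutCert.Stage
import Cfsg.Agent.Lib.Sporadic.OutCert.He.Data
import Cfsg.Agent.Lib.Sporadic.OutCert.He.DataA
import Cfsg.Agent.Lib.Sporadic.OutCert.He.DataCent
import Cfsg.Agent.Lib.Sporadic.OutCert.He.DataRows
import Cfsg.Agent.Lib.Sporadic.OutCert.He.DataNb
import Cfsg.Agent.Lib.Sporadic.OutCert.He.DataSlpG
import Cfsg.Agent.Lib.Sporadic.OutCert.He.DataSlpH
import Cfsg.Agent.Lib.Sporadic.OutCert.He.DataSig

/-!
The checks on the data for the automorphisms of the Held group.
-/

set_option autoImplicit false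
set_option maxRecDepth 100000

namespace CfsgLib.Sporadic.OutCert.He

/-- Adjacency. -/
def adjK (i j : ℕ) : Bool := Nat.testBit (rowAt i) j

/-- The class of two points. -/
def cod (i j : ℕ) : ℕ := if Nat.beq i j then 2 else if adjK i j then 1 else 0

/-- The first places of the blocks. -/
def maskLo : ℕ := (List.range (2057 / 17)).foldl (fun m j => m ||| 2 ^ (17 * j)) 0

/-- The other places of the blocks. -/
def maskHi : ℕ := (2 ^ 2057 - 1) - maskLo

/-- The fixed places. -/
def maskFix : ℕ := (2 ^ 2058 - 1) - (2 ^ 2057 - 1)

/-- The bits moved along the cycles. -/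
def rot (r : ℕ) : ℕ := ((r <<< 1) &&& maskHi) ||| (((r >>> 16) &&& maskLo) ||| (r &&& maskFix))

/-- The element of order 17 moves along the blocks. -/
def maskK (v : ℕ) : Bool :=
  if Nat.ble 2057 v then
    Nat.beq (lk 12 ka v) v &&
      (Nat.testBit maskFix v && (!Nat.testBit maskLo v && !Nat.testBit maskHi v))
  else if Nat.beq (v % 17) 16 then
    Nat.ble 16 v && (Nat.beq (lk 12 ka v) (v - 16) &&
      (Nat.testBit maskLo (v - 16) && (!Nat.testBit maskHi (v - 16) && !Nat.testBit maskFix (v - 16))))
  else Nat.beq (lk 12 ka v) (v + 1) &&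
    (Nat.testBit maskHi (v + 1) && (!Nat.testBit maskLo (v + 1) && !Nat.testBit maskFix (v + 1)))

/-- The rows rotate with the element of order 17. -/
def rotK (u : ℕ) : Bool := rowAt (lk 12 ka u) == rot (rowAt u)

/-- An entry of a table of neighbours. -/
def nbAt (T : List (List (ℕ × ℕ))) (j : ℕ) : ℕ × ℕ := (T.getD (j / 50) []).getD (j % 50) (0, 0)

/-- The listed points cover everything under the powers of an element. -/
def coverK (T : List (List (ℕ × ℕ))) (P : List ℕ) (o R : ℕ) : Bool :=
  Stage.setK (fun i => lk 12 (P.getD (i % o) 0) (nbAt T (i / o)).1) (R * o) == 2 ^ 2058 - 1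

/-- The listed rows are moved correctly. -/
noncomputable def rowsK (T : List (List (ℕ × ℕ))) (g R : ℕ) : Bool :=
  allF (fun j => Nat.blt (nbAt T j).1 2058 &&
    Stage.rowImgK 12 2058 425 rowAt g (nbAt T j).2 (nbAt T j).1) R

/-- The separating points for `a`. -/
def qA : List ℕ := (candA.map Prod.fst).flatMap fun x => aPows.map fun p => lk 12 p x

/-- The base points for `n`. -/
def baseN : List ℕ := stages.map Prod.fst ++ candN.map Prod.fst

/-- The separating points for `n`. -/
def qN : List ℕ := baseN.flatMap fun x => nPows.map fun p => lk 12 p x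

/-- The number of a power of an element of order at most two. -/
noncomputable def twoPow (k j : ℕ) : ℕ := if Nat.beq j 0 then oneK 12 2058 else k

/-- The images of the base points allowed for `a`. -/
noncomputable def allowA : List (List ℕ) :=
  (List.range (2 * 17)).map fun k => candA.map fun e =>
    lk 12 (aPows.getD (k / 2) 0) (lk 12 (twoPow kt (k % 2)) e.1)

/-- The lists of elements for all but the last point. -/
def frontT : List (List ℕ) := (stages.map Prod.snd).dropLast

/-- The elements for the last point. -/
def lastT : List ℕ := (stages.map Prod.snd).getLastD []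

/-- The choices giving members of the group. -/
def innerChoices : List (List ℕ) := Stage.choices (frontT ++ [lastT.take innerLast])

/-- The factors of a test. -/
def testWord (m : ℕ) (ks : List ℕ) (es : List (ℕ × ℕ)) : List ℕ :=
  es.flatMap fun e => [aPows.getD (e.1 * m % 17) 0, nPows.getD (e.2 % 8) 0, kb] ++ ks

/-- The point at which the tests are refuted. -/
def testPt : ℕ := 231

/-- The number of a product. -/
noncomputable def prodK (ks : List ℕ) : ℕ := ks.foldr (fun k acc => compK 12 2058 k acc) (oneK 12 2058)

/-- Whether a choice is one of those giving automorphisms. -/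
def goodK (m : ℕ) (ks : List ℕ) : Bool := good.any fun g => Nat.beq g.1 m && g.2 == ks

end CfsgLib.Sporadic.OutCert.He
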