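import Cfsg.Agent.Lib.Sporadic.HePresented
import Cfsg.Agent.Lib.Sporadic.OutCert.He.CheckEmbed
import Cfsg.Agent.Lib.Sporadic.OutCert.He.Check
import Cfsg.Agent.Lib.Sporadic.OutCert.He.CheckInvA
import Cfsg.Agent.Lib.Sporadic.OutCert.He.CheckInvN
import Cfsg.Agent.Lib.Sporadic.OutCert.He.CheckInvU
import Cfsg.Agent.Lib.Sporadic.OutCert.He.CheckInvB
import Cfsg.Agent.Lib.Sporadic.OutCert.He.CheckSlpG
import Cfsg.Agent.Lib.Sporadic.OutCert.He.CheckSlpH

/-!
The group He as the group generated by three permutations of 2058 points preserving adjacency.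
-/

set_option autoImplicit false
set_option maxRecDepth 10000

namespace CfsgLib.Sporadic.OutCert.He

open CfsgLib.Sporadic.CosetCert

attribute [local irreducible] lk pkF allF compK oneK kPi kPiI ka kai kn kni kb kbi kt ku kui kc0 kct kc0t ks ksu
  aPows nPows sTab slpG slpH rowAt rot stages nbA nbN

/-- Permutations of the points. -/
abbrev P : Type := Equiv.Perm (Fin 2058)

theorem hw : 2058 ≤ 2 ^ 12 := by norm_num

/-- The renumbering. -/
noncomputable def pPi : P := permOf kPi kPiI valid.1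

/-- The element of order 17. -/
noncomputable def pA : P := permOf ka kai valid.2.1

/-- The element normalising it. -/
noncomputable def pN : P := permOf kn kni valid.2.2.1

/-- The third generator. -/
noncomputable def pB : P := permOf kb kbi valid.2.2.2.1

/-- The element commuting with the first two. -/
noncomputable def pT : P := permOf kt kt valid.2.2.2.2.1

/-- The outer element. -/
noncomputable def pU : P := permOf ku kui valid.2.2.2.2.2

theorem rep_A : Rep 12 2058 ka pA := rep_permOf _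
theorem rep_N : Rep 12 2058 kn pN := rep_permOf _
theorem rep_B : Rep 12 2058 kb pB := rep_permOf _
theorem rep_T : Rep 12 2058 kt pT := rep_permOf _
theorem rep_U : Rep 12 2058 ku pU := rep_permOf _

theorem T_sq : pT * pT = 1 := by
  have h : pT = pT⁻¹ := rep_T.inj (rep_permOf_inv _)
  nth_rewrite 2 [h]
  exact mul_inv_cancel _

theorem table_N : HeData.table.N = 2058 := rfl

/-- The action after renumbering. -/
noncomputable def psi : Cfsg.Spor.He →* P :=
  ((finCongr table_N).trans pPi).permCongrHom.toMonoidHom.comp HeP.hom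

theorem psi_apply (g : Cfsg.Spor.He) (u : Fin HeData.table.N) :
    psi g (pPi (finCongr table_N u)) = pPi (finCongr table_N (HeP.hom g u)) := by
  simp [psi, Equiv.permCongrHom, Equiv.permCongr_apply]

theorem psi_injective : Function.Injective psi :=
  ((finCongr table_N).trans pPi).permCongrHom.injective.comp HeP.card_eq.2

theorem rep_gen {x : ℕ} (hx : x < 7) : Rep 12 2058 (sTab.getD x 0) (psi (HeP.coding.gen x)) := by
  intro i
  obtain ⟨u, rfl⟩ := ((finCongr table_N).trans pPi).surjective i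
  show lk 12 _ ((pPi (finCongr table_N u) : Fin 2058) : ℕ) = ((psi _ (pPi (finCongr table_N u)) : Fin 2058) : ℕ)
  rw [psi_apply]
  have h := allF_iff.1 (List.all_eq_true.1 conj_ok x (List.mem_range.2 hx)) u u.2
  rw [beq_iff_eq] at h
  have e1 : ((pPi (finCongr table_N u) : Fin 2058) : ℕ) = lk 12 kPi (u : ℕ) :=
    ((rep_permOf valid.1) (finCongr table_N u)).symm
  have e2 : ((pPi (finCongr table_N (HeP.hom (HeP.coding.gen x) u)) : Fin 2058) : ℕ) =
      lk 12 kPi (HeData.table.img x u) := by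
    rw [← HeP.hom_acts.img_eq x hx u]
    exact ((rep_permOf valid.1) _).symm
  rw [e1, e2, h]

/-- The group generated by the three permutations. -/
noncomputable def H : Subgroup P := Subgroup.closure {pA, pN, pB}

theorem A_mem : pA ∈ H := Subgroup.subset_closure (by simp)
theorem N_mem : pN ∈ H := Subgroup.subset_closure (by simp)
theorem B_mem : pB ∈ H := Subgroup.subset_closure (by simp)

theorem range_le : psi.range ≤ H := by
  have hs := slp_sound hw slp_H (S := H) fun i hi => by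
    simp only [List.length_cons, List.length_nil] at hi
    match i, hi with
    | 0, _ => exact ⟨pA, A_mem, rep_A⟩
    | 1, _ => exact ⟨pN, N_mem, rep_N⟩
    | 2, _ => exact ⟨pB, B_mem, rep_B⟩
  rw [MonoidHom.range_eq_map, ← HeP.coding.closure_gen_eq_top, MonoidHom.map_closure, Subgroup.closure_le]
  rintro _ ⟨_, ⟨x, hx, rfl⟩, rfl⟩
  have hx7 : x < 7 := hx
  have hlt : slpHAt.getD x 0 < [ka, kn, kb].length + slpH.length := by
    rw [List.getD_eq_getElem _ _ (by rw [slp_H_at.2.1]; exact hx7)]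
    have h := List.all_eq_true.1 slp_H_at.1 _ (List.getElem_mem (by rw [slp_H_at.2.1]; exact hx7))
    simpa [Nat.blt_eq] using h
  obtain ⟨g, hg, hr⟩ := hs _ hlt
  rw [beq_iff_eq.1 (List.all_eq_true.1 slp_H_at.2.2 x (List.mem_range.2 hx7))] at hr
  exact (hr.inj (rep_gen hx7)) ▸ hg

theorem range_at {i : ℕ} (hi : i ∈ slpGAt ++ innerAt.map Prod.snd ++ [atT, atC0, atSu]) :
    ∃ g ∈ psi.range, Rep 12 2058 (slpVal sTab slpG i) g := by
  refine slp_sound hw slp_G (S := psi.range) (fun j hj => ⟨psi (HeP.coding.gen j), ⟨_, rfl⟩, rep_gen ?_⟩) i ?_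
  · rw [slp_G_at.2.2.2.2.2.2.2.2.2] at hj; exact hj
  · simpa [Nat.blt_eq] using List.all_eq_true.1 slp_G_at.1 i hi

theorem gAt_mem {k : ℕ} (hk : k < 3) : slpGAt.getD k 0 ∈ slpGAt ++ innerAt.map Prod.snd ++ [atT, atC0, atSu] := by
  have hl := slp_G_at.2.2.2.2.2.2.2.2.1
  rw [List.getD_eq_getElem _ _ (by omega)]
  exact List.mem_append_left _ (List.mem_append_left _ (List.getElem_mem _))

theorem chosen_mem : pA ∈ psi.range ∧ pN ∈ psi.range ∧ pB ∈ psi.range := by
  obtain ⟨-, e0, e1, e2, -⟩ := slp_G_at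
  refine ⟨?_, ?_, ?_⟩
  · obtain ⟨g, hg, hr⟩ := range_at (gAt_mem (k := 0) (by norm_num))
    rw [e0] at hr
    rwa [rep_A.inj hr]
  · obtain ⟨g, hg, hr⟩ := range_at (gAt_mem (k := 1) (by norm_num))
    rw [e1] at hr
    rwa [rep_N.inj hr]
  · obtain ⟨g, hg, hr⟩ := range_at (gAt_mem (k := 2) (by norm_num))
    rw [e2] at hr
    rwa [rep_B.inj hr]

theorem H_eq_range : H = psi.range := by
  refine le_antisymm ((Subgroup.closure_le _).2 ?_) range_le
  rintro x (rfl | rfl | rfl)
  · exact chosen_mem.1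
  · exact chosen_mem.2.1
  · exact chosen_mem.2.2

theorem T_mem : pT ∈ H := by
  obtain ⟨g, hg, hr⟩ := range_at (i := atT) (List.mem_append_right _ List.mem_cons_self)
  rw [slp_G_at.2.2.2.2.1] at hr
  rw [rep_T.inj hr, H_eq_range]
  exact hg

theorem inner_mem {k : ℕ} (hk : k ∈ frontT.flatten ++ lastT.take innerLast) : ∃ g ∈ H, Rep 12 2058 k g := by
  obtain ⟨e, he, hek⟩ := List.any_eq_true.1 (List.all_eq_true.1 elements_ok.2.1 k hk)
  obtain ⟨g, hg, hr⟩ := range_at (i := e.2)
    (List.mem_append_left _ (List.mem_append_right _ (List.mem_map.2 ⟨e, he, rfl⟩)))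
  rw [beq_iff_eq.1 (List.all_eq_true.1 slp_G_at.2.2.2.2.2.2.2.1 e he), beq_iff_eq.1 hek] at hr
  exact ⟨g, H_eq_range ▸ hg, hr⟩

theorem C0_rep : ∃ g ∈ H, Rep 12 2058 kc0 g := by
  obtain ⟨g, hg, hr⟩ := range_at (i := atC0)
    (List.mem_append_right _ (List.mem_cons_of_mem _ List.mem_cons_self))
  rw [slp_G_at.2.2.2.2.2.1] at hr
  exact ⟨g, H_eq_range ▸ hg, hr⟩

theorem Su_rep : ∃ g ∈ H, Rep 12 2058 ksu g := by
  obtain ⟨g, hg, hr⟩ := range_at (i := atSu)
    (List.mem_append_right _ (List.mem_cons_of_mem _ (List.mem_cons_of_mem _ List.mem_cons_self)))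
  rw [slp_G_at.2.2.2.2.2.2.1] at hr
  exact ⟨g, H_eq_range ▸ hg, hr⟩

theorem H_spec : Nonempty (Cfsg.Spor.He ≃* H) ∧ Nat.card H = 4030387200 := by
  let f : Cfsg.Spor.He ≃* H := (MonoidHom.ofInjective psi_injective).trans (MulEquiv.subgroupCongr H_eq_range.symm)
  exact ⟨⟨f⟩, (Nat.card_congr f.toEquiv).symm.trans HeP.card_eq.1⟩

theorem pow_rep {n : ℕ} {g : P} (hg : Rep 12 2058 n g) {l : List ℕ} {m : ℕ}
    (h : (l.head? == some (oneK 12 2058) && ((List.range m).all fun i =>
      compK 12 2058 n (l.getD i 0) == l.getD (i + 1) 0) && compK 12 2058 n (l.getD m 0) == oneK 12 2058) = true) :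
    (∀ i ≤ m, Rep 12 2058 (l.getD i 0) (g ^ i)) ∧ g ^ (m + 1) = 1 := by
  simp only [Bool.and_eq_true, List.all_eq_true, List.mem_range, beq_iff_eq] at h
  have hall : ∀ i ≤ m, Rep 12 2058 (l.getD i 0) (g ^ i) := by
    intro i
    induction i with
    | zero =>
      intro _
      cases l with
      | nil => simp at h
      | cons a l =>
        have h1 : a = oneK 12 2058 := by simpa using h.1.1
        rw [pow_zero, List.getD_cons_zero, h1]
        exact rep_one hw
    | succ i ih =>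
      intro hi
      rw [← h.1.2 i (by omega), pow_succ']
      exact rep_comp hw hg (ih (by omega))
  refine ⟨hall, ?_⟩
  have h2 := rep_comp hw hg (hall m le_rfl)
  rw [h.2, ← pow_succ'] at h2
  exact h2.inj (rep_one hw)

theorem rep_aPow {i : ℕ} (hi : i < 17) : Rep 12 2058 (aPows.getD i 0) (pA ^ i) :=
  (pow_rep rep_A pows.1).1 i (by omega)

theorem rep_nPow {i : ℕ} (hi : i < 8) : Rep 12 2058 (nPows.getD i 0) (pN ^ i) :=
  (pow_rep rep_N pows.2.1).1 i (by omega)

theorem A_pow : pA ^ 17 = 1 := (pow_rep rep_A pows.1).2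

theorem N_pow : pN ^ 8 = 1 := (pow_rep rep_N pows.2.1).2

theorem N_A : pN * pA = pA ^ 9 * pN :=
  (rels.1 ▸ rep_comp hw rep_N rep_A).inj (rep_comp hw (rep_aPow (by norm_num)) rep_N)

theorem B_N : pB * pN = pN ^ 7 * pB :=
  (rels.2.1 ▸ rep_comp hw rep_B rep_N).inj (rep_comp hw (rep_nPow (by norm_num)) rep_B)

theorem T_A : Commute pT pA := (rels.2.2.1 ▸ rep_comp hw rep_T rep_A).inj (rep_comp hw rep_A rep_T)

theorem T_N : Commute pT pN := (rels.2.2.2.1 ▸ rep_comp hw rep_T rep_N).inj (rep_comp hw rep_N rep_T)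

theorem U_A : pU * pA = pA ^ 3 * pU :=
  (rels.2.2.2.2.1 ▸ rep_comp hw rep_U rep_A).inj (rep_comp hw (rep_aPow (by norm_num)) rep_U)

theorem U_N : Commute pU pN := (rels.2.2.2.2.2.1 ▸ rep_comp hw rep_U rep_N).inj (rep_comp hw rep_N rep_U)

/-- The permutations preserving adjacency. -/
noncomputable abbrev Stab : Subgroup P := pairStab adjK

theorem A_stab : pA ∈ Stab := by
  intro u v
  have hu := List.all_eq_true.1 rot_ok u (List.mem_range.2 u.2)
  have hv := List.all_eq_true.1 mask_ok v (List.mem_range.2 v.2)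
  rw [rotK, beq_iff_eq] at hu
  show adjK (pA u : ℕ) (pA v : ℕ) = adjK u v
  rw [← rep_A u, ← rep_A v, adjK, adjK, hu, rot]
  simp only [Nat.testBit_lor, Nat.testBit_land, Nat.testBit_shiftRight, Nat.testBit_shiftLeft]
  rw [maskK] at hv
  split_ifs at hv with h0 h
  · simp only [Bool.and_eq_true, Bool.not_eq_true', Nat.beq_eq] at hv
    obtain ⟨e, hf, hlo, hhi⟩ := hv
    simp [e, hf, hlo, hhi]
  · simp only [Bool.and_eq_true, Bool.not_eq_true', Nat.beq_eq, Nat.ble_eq] at hv
    obtain ⟨hp, e, hlo, hhi, hf⟩ := hv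
    simp [e, hf, hlo, hhi, show 16 + ((v : ℕ) - 16) = v by omega]
  · simp only [Bool.and_eq_true, Bool.not_eq_true', Nat.beq_eq] at hv
    obtain ⟨e, hhi, hlo, hf⟩ := hv
    simp [e, hf, hlo, hhi]

theorem conj_gen {g x : P} {k : ℕ} (h : g * x = x ^ k * g) (i : ℕ) : g * x ^ i = x ^ (k * i) * g := by
  induction i with
  | zero => simp
  | succ i ih => rw [pow_succ, ← mul_assoc, ih, mul_assoc, h, ← mul_assoc, ← pow_add, Nat.mul_succ]

theorem cover_spec {T : List (List (ℕ × ℕ))} {L : List ℕ} {o R : ℕ} {x : P} (ho : 0 < o)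
    (hrep : ∀ i < o, Rep 12 2058 (L.getD i 0) (x ^ i)) (h : coverK T L o R = true)
    {g : ℕ} (hr : rowsK T g R = true) (u : Fin 2058) :
    ∃ (i : ℕ) (r : Fin 2058) (nb : ℕ), (x ^ i) r = u ∧ Stage.rowImgK 12 2058 425 rowAt g nb r = true := by
  rw [coverK, beq_iff_eq] at h
  have hb : (2 ^ 2058 - 1 : ℕ).testBit u = true := by rw [Nat.testBit_two_pow_sub_one]; simp [u.2]
  rw [← h, Stage.testBit_setK] at hb
  obtain ⟨i, hi, e⟩ := hb
  have hj : i / o < R := Nat.div_lt_of_lt_mul (by rwa [Nat.mul_comm] at hi)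
  have h' := allF_iff.1 hr _ hj
  simp only [Bool.and_eq_true, Nat.blt_eq] at h'
  refine ⟨i % o, ⟨(nbAt T (i / o)).1, h'.1⟩, _, Fin.ext ?_, h'.2⟩
  exact ((hrep _ (Nat.mod_lt _ ho)) _).symm.trans e

theorem row_spec {g : P} {k : ℕ} (hg : Rep 12 2058 k g) {r : Fin 2058} {nb : ℕ}
    (h : Stage.rowImgK 12 2058 425 rowAt k nb r = true) (v : Fin 2058) : adjK (g r) (g v) = adjK r v :=
  Stage.rowImg_spec hg h v

theorem N_stab : pN ∈ Stab := by
  refine Stage.mem_of_reps fun u => ?_
  obtain ⟨i, r, nb, hu, h⟩ := cover_spec (by norm_num) (fun i hi => rep_aPow hi) coverA_ok rows_N u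
  exact ⟨pA ^ i, pA ^ (9 * i), r, pow_mem A_stab _, pow_mem A_stab _, conj_gen N_A i, hu,
    row_spec rep_N h⟩

theorem U_stab : pU ∈ Stab := by
  refine Stage.mem_of_reps fun u => ?_
  obtain ⟨i, r, nb, hu, h⟩ := cover_spec (by norm_num) (fun i hi => rep_aPow hi) coverA_ok rows_U u
  exact ⟨pA ^ i, pA ^ (3 * i), r, pow_mem A_stab _, pow_mem A_stab _, conj_gen U_A i, hu,
    row_spec rep_U h⟩

theorem B_stab : pB ∈ Stab := by
  refine Stage.mem_of_reps fun u => ?_
  obtain ⟨i, r, nb, hu, h⟩ := cover_spec (by norm_num) (fun i hi => rep_nPow hi) coverN_ok rows_B u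
  exact ⟨pN ^ i, pN ^ (7 * i), r, pow_mem N_stab _, pow_mem N_stab _, conj_gen B_N i, hu,
    row_spec rep_B h⟩

theorem H_le_stab : H ≤ Stab := by
  refine (Subgroup.closure_le _).2 ?_
  rintro x (rfl | rfl | rfl)
  · exact A_stab
  · exact N_stab
  · exact B_stab

theorem stab_le_cod : Stab ≤ pairStab cod := fun g hg i j => by
  show cod (g i : ℕ) (g j : ℕ) = cod i j
  have h : adjK (g i : ℕ) (g j : ℕ) = adjK i j := hg i j
  rw [cod, cod, h]
  by_cases e : i = j
  · subst e; simp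
  · have e' : ¬ g i = g j := fun he => e (g.injective he)
    rw [Fin.ext_iff] at e e'
    simp [e, e']

end CfsgLib.Sporadic.OutCert.He
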