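import Cfsg.Agent.Lib.Sporadic.OutCert.He.Cent
import Cfsg.Agent.Lib.Sporadic.OutCert.He.CheckTests
import Cfsg.Agent.Lib.Sporadic.OutCert.Out

/-!
The group He has exactly two classes of automorphisms modulo inner ones.
-/

set_option autoImplicit false
set_option maxRecDepth 10000

namespace CfsgLib.Sporadic.OutCert.He

open Cfsg

attribute [local irreducible] lk pkF allF compK oneK cod rowAt ka kai kn kni kb kbi kt ku kui kc0 kct kc0t ks ksu
  aPows nPows stages good tests

/-- The element of prime order in the group. -/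
noncomputable def hA : H := ⟨pA, A_mem⟩

/-- The element normalising it, in the group. -/
noncomputable def hN : H := ⟨pN, N_mem⟩

/-- The third generator in the group. -/
noncomputable def hB : H := ⟨pB, B_mem⟩

/-- The element commuting with the first two, in the group. -/
noncomputable def hT : H := ⟨pT, T_mem⟩

theorem orderOf_hA : orderOf hA = 17 := by
  rw [← orderOf_injective H.subtype Subtype.coe_injective]
  exact orderOf_A

theorem hA_pow : hA ^ 17 = 1 := Subtype.ext A_pow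

theorem conj_hN (i m : ℕ) : hN ^ i * hA ^ m * (hN ^ i)⁻¹ = hA ^ (m * 9 ^ i) := by
  have h1 : MulAut.conj hN hA = hA ^ 9 := by
    rw [MulAut.conj_apply, mul_inv_eq_iff_eq_mul]; exact Subtype.ext N_A
  induction i generalizing m with
  | zero => simp
  | succ i ih =>
    calc hN ^ (i + 1) * hA ^ m * (hN ^ (i + 1))⁻¹
        = MulAut.conj hN (hN ^ i * hA ^ m * (hN ^ i)⁻¹) := by
          rw [MulAut.conj_apply, pow_succ']; group
      _ = hA ^ (m * 9 ^ (i + 1)) := by rw [ih, map_pow, h1, ← pow_mul]; congr 1; ring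

theorem exponents : ∀ j < 17, 0 < j → ∃ i < 16, j * 9 ^ i % 17 = 1 ∨ j * 9 ^ i % 17 = 3 := by decide +kernel

theorem inverses : ∀ m ∈ [1, 3], ∃ s < 17, m * s % 17 = 1 := by decide +kernel

theorem shifts : ∀ i < 17, ∃ l < 17, (2 * l + i) % 17 = l := by decide +kernel

theorem closure_gen : Subgroup.closure ({hA, hN, hB} : Set H) = ⊤ := by
  apply Subgroup.map_injective H.subtype_injective
  rw [MonoidHom.map_closure, ← MonoidHom.range_eq_map, Subgroup.range_subtype]
  simp only [Set.image_insert_eq, Set.image_singleton]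
  rfl

theorem pow_hA_mod (i : ℕ) : hA ^ (i % 17) = hA ^ i := by rw [← orderOf_hA, pow_mod_orderOf]

theorem swap (l : ℕ) : hA ^ l * hN = hN * hA ^ (2 * l) := by
  have h := conj_hN 1 (2 * l)
  rw [pow_one, pow_one, mul_inv_eq_iff_eq_mul] at h
  rw [h, ← pow_hA_mod (2 * l * 9), show 2 * l * 9 % 17 = l % 17 by
    rw [mul_comm 2 l, mul_assoc, Nat.mul_mod]; norm_num, pow_hA_mod]

/-- A product of the shape of a test. -/
def testProd {G : Type*} [Monoid G] (A N B : G) (es : List (ℕ × ℕ)) : G :=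
  (es.map fun e => A ^ e.1 * N ^ e.2 * B).prod

theorem testProd_map {G K F : Type*} [Monoid G] [Monoid K] [FunLike F G K] [MonoidHomClass F G K] (f : F)
    (A N B : G) : ∀ es, f (testProd A N B es) = testProd (f A) (f N) (f B) es
  | [] => by simp [testProd]
  | e :: es => by
    have ih := testProd_map f A N B es
    simp only [testProd, List.map_cons, List.prod_cons, map_mul, map_pow] at ih ⊢
    rw [ih]

theorem test_forall {m : ℕ} {ks : List ℕ} {L : List P} (hL : List.Forall₂ (Rep 12 2058) ks L) :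
    ∀ es : List (ℕ × ℕ), ∃ M : List P, List.Forall₂ (Rep 12 2058) (testWord m ks es) M ∧
      M.prod = testProd (pA ^ m) pN (pB * L.prod) es
  | [] => ⟨[], List.Forall₂.nil, rfl⟩
  | e :: es => by
    obtain ⟨M, hM, hMp⟩ := test_forall hL es
    refine ⟨[pA ^ (e.1 * m % 17), pN ^ (e.2 % 8), pB] ++ L ++ M, ?_, ?_⟩
    · rw [testWord, List.flatMap_cons]
      exact List.rel_append (List.rel_append (List.Forall₂.cons (rep_aPow (Nat.mod_lt _ (by norm_num)))
        (List.Forall₂.cons (rep_nPow (Nat.mod_lt _ (by norm_num))) (List.Forall₂.cons rep_B List.Forall₂.nil))) hL) hM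
    · rw [List.prod_append, List.prod_append, hMp]
      simp only [testProd, List.map_cons, List.prod_cons, List.prod_nil, mul_one, mul_assoc]
      rw [← pow_mul, mul_comm m, ← pow_eq_pow_mod _ A_pow, ← pow_eq_pow_mod _ N_pow]

theorem test_iff' {m r : ℕ} {ks : List ℕ} {L : List P} (hL : List.Forall₂ (Rep 12 2058) ks L) {c : H}
    (hc : (c : P) = L.prod) (es : List (ℕ × ℕ)) :
    testK 12 2058 (testWord m ks es) r = true ↔ testProd (hA ^ m) hN (hB * c) es ^ r = 1 := by
  obtain ⟨M, hM, hMp⟩ := test_forall (m := m) hL es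
  rw [test_iff hM, hMp, ← hc]
  have hcoe : ((testProd (hA ^ m) hN (hB * c) es : H) : P) = testProd (pA ^ m) pN (pB * c) es :=
    testProd_map H.subtype _ _ _ es
  rw [← hcoe, ← Subgroup.coe_pow]
  exact ⟨fun h => Subtype.ext h, fun h => congrArg Subtype.val h⟩

theorem rep_prod : ∀ {ks : List ℕ} {L : List P}, List.Forall₂ (Rep 12 2058) ks L →
    Rep 12 2058 (prodK ks) L.prod
  | [], _, List.Forall₂.nil => rep_one hw
  | _ :: _, _, List.Forall₂.cons h hs => rep_comp hw h (rep_prod hs)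

theorem good_spec {m : ℕ} {ks : List ℕ} (h : goodK m ks = true) :
    (m = 1 ∧ prodK ks = oneK 12 2058) ∨ (m = 1 ∧ prodK ks = kct) ∨ (m = 3 ∧ prodK ks = kc0) ∨
      (m = 3 ∧ prodK ks = kc0t) := by
  obtain ⟨g, hg, he⟩ := List.any_eq_true.1 h
  simp only [Bool.and_eq_true, Nat.beq_eq, beq_iff_eq] at he
  obtain ⟨rfl, rfl⟩ := he
  obtain ⟨i, hi, rfl⟩ := List.getElem_of_mem hg
  have hi4 : i < 4 := good_ok.1 ▸ hi
  have h1 := beq_iff_eq.1 (List.all_eq_true.1 good_ok.2.1 i (List.mem_range.2 hi4))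
  rw [List.getD_eq_getElem _ _ hi] at h1
  have h2 := congrArg (fun l : List ℕ => l.getD i 0) (beq_iff_eq.1 good_ok.2.2)
  simp only [List.getD_eq_getElem _ _ (show i < (good.map Prod.fst).length by simpa using hi),
    List.getElem_map] at h2
  rw [h1, h2]
  match i, hi4 with
  | 0, _ => exact Or.inl ⟨rfl, rfl⟩
  | 1, _ => exact Or.inr (Or.inl ⟨rfl, rfl⟩)
  | 2, _ => exact Or.inr (Or.inr (Or.inl ⟨rfl, rfl⟩))
  | 3, _ => exact Or.inr (Or.inr (Or.inr ⟨rfl, rfl⟩))

theorem map_H : H.map (MulAut.conj pU).toMonoidHom = H := by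
  have hA' : MulAut.conj pU pA = pA ^ 3 := by
    rw [MulAut.conj_apply, U_A, mul_inv_cancel_right]
  have hN' : MulAut.conj pU pN = pN := by
    rw [MulAut.conj_apply, U_N.eq, mul_inv_cancel_right]
  obtain ⟨g, hg, hr⟩ := C0_rep
  have hB' : MulAut.conj pU pB = pB * g := by
    have h := (rels.2.2.2.2.2.2.1 ▸ rep_comp hw rep_U rep_B).inj (rep_comp hw (rep_comp hw rep_B hr) rep_U)
    rw [MulAut.conj_apply, h, mul_inv_cancel_right]
  refine Subgroup.eq_of_le_of_card_ge ?_
    (Nat.card_congr (H.equivMapOfInjective _ (MulAut.conj pU).injective).toEquiv).le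
  rw [H, MonoidHom.map_closure, Subgroup.closure_le]
  rintro _ ⟨x, (rfl | rfl | rfl), rfl⟩
  · rw [MulEquiv.coe_toMonoidHom, hA']; exact pow_mem A_mem _
  · rw [MulEquiv.coe_toMonoidHom, hN']; exact N_mem
  · rw [MulEquiv.coe_toMonoidHom, hB']; exact mul_mem B_mem hg

/-- The outer automorphism. -/
noncomputable def sigma : MulAut H :=
  ((MulAut.conj pU).subgroupMap H).trans (MulEquiv.subgroupCongr map_H)

theorem sigma_apply (x : H) : ((sigma x : H) : P) = pU * (x : P) * pU⁻¹ := rfl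

theorem sigma_A : sigma hA = hA ^ 3 := by
  refine Subtype.ext ((sigma_apply hA).trans ?_)
  show pU * pA * pU⁻¹ = pA ^ 3
  rw [U_A, mul_inv_cancel_right]

theorem sigma_N : sigma hN = hN := by
  refine Subtype.ext ((sigma_apply hN).trans ?_)
  show pU * pN * pU⁻¹ = pN
  rw [U_N.eq, mul_inv_cancel_right]

theorem sigma_B {c : H} (hc : Rep 12 2058 kc0 (c : P)) : sigma hB = hB * c := by
  refine Subtype.ext ((sigma_apply hB).trans ?_)
  show pU * pB * pU⁻¹ = pB * (c : P)
  have h := (rels.2.2.2.2.2.2.1 ▸ rep_comp hw rep_U rep_B).inj (rep_comp hw (rep_comp hw rep_B hc) rep_U)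
  rw [h, mul_inv_cancel_right]

theorem conjT_A : MulAut.conj hT hA = hA := by
  rw [MulAut.conj_apply, mul_inv_eq_iff_eq_mul]
  exact Subtype.ext T_A.eq

theorem conjT_N : MulAut.conj hT hN = hN := by
  rw [MulAut.conj_apply, mul_inv_eq_iff_eq_mul]
  exact Subtype.ext T_N.eq

theorem conjT_B {c : H} (hc : Rep 12 2058 kct (c : P)) : MulAut.conj hT hB = hB * c := by
  rw [MulAut.conj_apply, mul_inv_eq_iff_eq_mul]
  exact Subtype.ext ((rels.2.2.2.2.2.2.2.1 ▸ rep_comp hw rep_T rep_B).inj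
    (rep_comp hw (rep_comp hw rep_B hc) rep_T))

theorem conjT_BC {c d : H} (hd : Rep 12 2058 kc0 (d : P)) (hc : Rep 12 2058 kc0t (c : P)) :
    MulAut.conj hT (hB * d) = hB * c := by
  rw [MulAut.conj_apply, mul_inv_eq_iff_eq_mul]
  exact Subtype.ext ((rels.2.2.2.2.2.2.2.2.1 ▸ rep_comp hw rep_T (rep_comp hw rep_B hd)).inj
    (rep_comp hw (rep_comp hw rep_B hc) rep_T))

theorem sigma_notInn : sigma ∉ Inn H := by
  rintro ⟨h, hh⟩
  have hfix : ∀ x, sigma x = h * x * h⁻¹ := fun x => by rw [← hh]; rfl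
  have h1 : pU * pA * pU⁻¹ = (h : P) * pA * (h : P)⁻¹ :=
    (sigma_apply hA).symm.trans (congrArg Subtype.val (hfix hA))
  have hca : Commute ((h : P)⁻¹ * pU) pA := by
    show (h : P)⁻¹ * pU * pA = pA * ((h : P)⁻¹ * pU)
    rw [mul_inv_eq_iff_eq_mul] at h1
    rw [mul_assoc, h1]
    group
  refine U_notMem ?_
  rw [show pU = (h : P) * ((h : P)⁻¹ * pU) by rw [mul_inv_cancel_left]]
  exact mul_mem h.2 (cent_A (mul_mem (inv_mem (H_le_stab h.2)) U_stab) hca)

theorem T_cases {j : ℕ} (hj : j < 2) (h : pT ^ (j * 8) = 1) : pT ^ j = 1 := by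
  match j, hj with
  | 0, _ => exact pow_zero _
  | 1, _ =>
    rw [one_mul] at h
    rw [pow_one]
    by_cases hflag : false = true
    · rw [show pT ^ 8 = pT ^ (8 % 2) from pow_eq_pow_mod _ (by rw [pow_two]; exact T_sq)] at h
      simp_all
    · have hf := points.2
      refine Equiv.ext fun x => Fin.ext ?_
      rw [Bool.not_eq_true] at hflag
      rw [hflag, List.any_eq_false] at hf
      have := hf x (List.mem_range.2 x.2)
      rw [rep_T x] at this
      simpa using this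

theorem classes (α : MulAut H) : α ∈ Inn H ∨ ∃ γ ∈ Inn H, α = γ * sigma := by
  haveI : Fact (Nat.Prime 17) := ⟨by norm_num⟩
  obtain ⟨g, j, hj0, hj, hg⟩ := exists_conj_pow (p := 17) (G := H) (by rw [H_spec.2]; norm_num) orderOf_hA
    ((MulEquiv.orderOf_eq α hA).trans orderOf_hA)
  obtain ⟨e, -, he⟩ := exponents j hj hj0
  obtain ⟨m, hm2, hm⟩ : ∃ m, m ∈ [1, 3] ∧ (MulAut.conj (hN ^ e * g) * α) hA = hA ^ m := by
    refine ⟨j * 9 ^ e % 17, by simpa using he, ?_⟩
    calc (MulAut.conj (hN ^ e * g) * α) hA = hN ^ e * (g * α hA * g⁻¹) * (hN ^ e)⁻¹ := by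
          rw [MulAut.mul_apply, MulAut.conj_apply]; group
      _ = _ := by rw [hg, conj_hN, pow_hA_mod]
  suffices h : ∀ δ : MulAut H, δ hA = hA ^ m → δ ∈ Inn H ∨ ∃ γ ∈ Inn H, δ = γ * sigma by
    have hc : MulAut.conj (hN ^ e * g) ∈ Inn H := ⟨_, rfl⟩
    rcases h _ hm with h' | ⟨γ, hγ, e'⟩
    · left
      have := mul_mem (inv_mem hc) h'
      rwa [inv_mul_cancel_left] at this
    · exact Or.inr ⟨(MulAut.conj (hN ^ e * g))⁻¹ * γ, mul_mem (inv_mem hc) hγ,
        by rw [mul_assoc, ← e', inv_mul_cancel_left]⟩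
  clear hm he hg hj hj0 g j e α
  intro δ hm
  obtain ⟨i, hi, jt, hjt, hδN⟩ : ∃ i < 17, ∃ jt < 2, δ hN = hN * (hA ^ i * hT ^ jt) := by
    obtain ⟨s, -, hs⟩ := inverses m hm2
    have hrel : hN * hA = hA ^ 9 * hN := Subtype.ext N_A
    have h8 : δ hN * hA ^ m = hA ^ (9 * m) * δ hN := by
      have := congrArg δ hrel
      rwa [map_mul, map_mul, map_pow, hm, ← pow_mul, mul_comm m] at this
    have h4 : hN * hA ^ m = hA ^ (9 * m) * hN := by
      have h1 := conj_hN 1 m
      rw [pow_one, pow_one, mul_comm m, mul_inv_eq_iff_eq_mul] at h1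
      exact h1
    have hc : Commute (hN⁻¹ * δ hN) (hA ^ m) := by
      have h6 : hN⁻¹ * hA ^ (9 * m) = hA ^ m * hN⁻¹ := by
        rw [eq_mul_inv_iff_mul_eq, mul_assoc, ← h4, inv_mul_cancel_left]
      show hN⁻¹ * δ hN * hA ^ m = hA ^ m * (hN⁻¹ * δ hN)
      rw [mul_assoc, h8, ← mul_assoc, h6, mul_assoc]
    have hc' := hc.pow_right s
    rw [← pow_mul, ← pow_hA_mod, hs, pow_one] at hc'
    obtain ⟨i, hi, jt, hjt, e⟩ := cent_A_stab (H_le_stab (hN⁻¹ * δ hN).2) (congrArg Subtype.val hc'.eq)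
    refine ⟨i, hi, jt, hjt, ?_⟩
    rw [show hA ^ i * hT ^ jt = hN⁻¹ * δ hN from Subtype.ext e.symm, mul_inv_cancel_left]
  obtain ⟨l, -, hl⟩ := shifts i hi
  let ε := MulAut.conj (hA ^ l) * δ
  have eA : ε hA = hA ^ m := by
    rw [MulAut.mul_apply, hm, MulAut.conj_apply, ← pow_add, add_comm, pow_add, mul_inv_cancel_right]
  have hTA : Commute hT hA := Subtype.ext T_A.eq
  have hTN : Commute hT hN := Subtype.ext T_N.eq
  have eN : ε hN = hN := by
    have e1 : ε hN = hN * hT ^ jt := by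
      calc ε hN = hA ^ l * (hN * (hA ^ i * hT ^ jt)) * (hA ^ l)⁻¹ := by
            rw [MulAut.mul_apply, hδN, MulAut.conj_apply]
        _ = hN * (hA ^ (2 * l + i) * hT ^ jt * (hA ^ l)⁻¹) := by
            rw [← mul_assoc, swap, pow_add]; simp only [mul_assoc]
        _ = hN * hT ^ jt := by
            rw [← pow_hA_mod, hl, ← ((hTA.pow_pow jt l)).eq, mul_inv_cancel_right]
    have h2 := congrArg ε (show hN ^ 8 = 1 from Subtype.ext N_pow)
    rw [map_pow, e1, map_one, (hTN.symm.pow_right jt).mul_pow, show hN ^ 8 = 1 from Subtype.ext N_pow,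
      one_mul, ← pow_mul] at h2
    rw [e1, show hT ^ jt = 1 from Subtype.ext (T_cases hjt (congrArg Subtype.val h2)), mul_one]
  obtain ⟨ks, hks, L, hL, hc⟩ : ∃ ks ∈ innerChoices, ∃ L : List P, List.Forall₂ (Rep 12 2058) ks L ∧
      ((hB⁻¹ * ε hB : H) : P) = L.prod := by
    have hrel : hB * hN = hN ^ 7 * hB := Subtype.ext B_N
    have h8 : ε hB * hN = hN ^ 7 * ε hB := by
      have := congrArg ε hrel
      rwa [map_mul, map_mul, map_pow, eN] at this
    have hc : Commute (hB⁻¹ * ε hB) hN := by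
      have h6 : hB⁻¹ * hN ^ 7 = hN * hB⁻¹ := by
        rw [eq_mul_inv_iff_mul_eq, mul_assoc, ← hrel, inv_mul_cancel_left]
      show hB⁻¹ * ε hB * hN = hN * (hB⁻¹ * ε hB)
      rw [mul_assoc, h8, ← mul_assoc, h6, mul_assoc]
    exact cent_N (hB⁻¹ * ε hB).2 (congrArg Subtype.val hc.eq)
  generalize hcdef : hB⁻¹ * ε hB = c at hc
  have eB : ε hB = hB * c := by rw [← hcdef, mul_inv_cancel_left]
  have hgood : goodK m ks = true := by
    have h := List.all_eq_true.1 (List.all_eq_true.1 tests_ok m hm2) ks hks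
    rw [Bool.or_eq_true] at h
    refine h.resolve_right fun h => ?_
    obtain ⟨t, ht, hf⟩ := List.any_eq_true.1 h
    have h1 := (test_iff' (m := 1) (L := []) (c := 1) List.Forall₂.nil rfl t.1).1
      (List.all_eq_true.1 tests_true t ht)
    rw [mul_one, pow_one] at h1
    have h2 := congrArg ε h1
    rw [map_pow, testProd_map ε, eA, eN, eB, map_one] at h2
    rw [allF_iff.1 ((test_iff' hL hc t.1).2 h2) testPt (by unfold testPt; norm_num)] at hf
    exact Bool.noConfusion hf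
  have hrep : Rep 12 2058 (prodK ks) (c : P) := hc ▸ rep_prod hL
  have ext' : ∀ τ : MulAut H, τ hA = hA ^ m → τ hN = hN → τ hB = hB * c → ε = τ := by
    intro τ t1 t2 t3
    have h : Set.EqOn ε.toMonoidHom τ.toMonoidHom ({hA, hN, hB} : Set H) := by
      rintro x (rfl | rfl | rfl)
      · exact eA.trans t1.symm
      · exact eN.trans t2.symm
      · exact eB.trans t3.symm
    exact MulEquiv.ext fun x => DFunLike.congr_fun (MonoidHom.eq_of_eqOn_dense closure_gen h) x
  have hinn : MulAut.conj (hA ^ l) ∈ Inn H := ⟨_, rfl⟩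
  have fin1 : ε ∈ Inn H → δ ∈ Inn H ∨ ∃ γ ∈ Inn H, δ = γ * sigma := fun h => Or.inl (by
    have := mul_mem (inv_mem hinn) h
    rwa [inv_mul_cancel_left] at this)
  have fin2 : ∀ γ ∈ Inn H, ε = γ * sigma → δ ∈ Inn H ∨ ∃ γ ∈ Inn H, δ = γ * sigma := fun γ hγ e =>
    Or.inr ⟨(MulAut.conj (hA ^ l))⁻¹ * γ, mul_mem (inv_mem hinn) hγ,
      by rw [mul_assoc, ← e, inv_mul_cancel_left]⟩
  rcases good_spec hgood with ⟨rfl, hp⟩ | ⟨rfl, hp⟩ | ⟨rfl, hp⟩ | ⟨rfl, hp⟩
  · refine fin1 ?_
    have hc1 : c = 1 := Subtype.ext ((hp ▸ hrep).inj (rep_one hw))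
    rw [ext' 1 (pow_one hA).symm rfl (by rw [hc1, mul_one]; rfl)]
    exact one_mem _
  · refine fin1 ?_
    rw [ext' (MulAut.conj hT) (by rw [conjT_A, pow_one]) conjT_N (conjT_B (hp ▸ hrep))]
    exact ⟨_, rfl⟩
  · refine fin2 1 (one_mem _) ?_
    rw [one_mul]
    exact ext' sigma sigma_A sigma_N (sigma_B (hp ▸ hrep))
  · refine fin2 (MulAut.conj hT) ⟨_, rfl⟩ (ext' _ ?_ ?_ ?_)
    · rw [MulAut.mul_apply, sigma_A, map_pow, conjT_A]
    · rw [MulAut.mul_apply, sigma_N, conjT_N]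
    · obtain ⟨g, hg, hr⟩ := C0_rep
      rw [MulAut.mul_apply, sigma_B (c := ⟨g, hg⟩) hr]
      exact conjT_BC hr (hp ▸ hrep)

theorem card_out : Nat.card (Out Cfsg.Spor.He) = 2 := by
  classical
  obtain ⟨e⟩ := H_spec.1
  rw [card_out_congr e]
  let f : Bool → Out H := fun b => if b then QuotientGroup.mk sigma else 1
  have hf : Function.Bijective f := by
    refine ⟨?_, fun x => ?_⟩
    · have hne : (QuotientGroup.mk sigma : Out H) ≠ 1 := fun h =>
        sigma_notInn ((QuotientGroup.eq_one_iff sigma).1 h)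
      intro a b hab
      cases a <;> cases b
      · rfl
      · exact absurd hab.symm hne
      · exact absurd hab hne
      · rfl
    · obtain ⟨α, rfl⟩ := QuotientGroup.mk_surjective x
      rcases classes α with h | ⟨γ, hγ, rfl⟩
      · exact ⟨false, ((QuotientGroup.eq_one_iff α).2 h).symm⟩
      · refine ⟨true, ?_⟩
        show (QuotientGroup.mk sigma : Out H) = QuotientGroup.mk (γ * sigma)
        rw [QuotientGroup.mk_mul, (QuotientGroup.eq_one_iff γ).2 hγ, one_mul]
  rw [← Nat.card_congr (Equiv.ofBijective f hf)]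
  simp

end CfsgLib.Sporadic.OutCert.He
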